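import Cfsg.Agent.ClassNum9.Iso.Split

/-!
Products of the polynomials of pieces.
-/

set_option autoImplicit false

namespace Cfsg.Agent.CN9

open Polynomial Cfsg.Agent.GLSemi

universe u

variable {F : Type u} [Field F]

/-- self-dual polynomials of half-degree `d` with constant term one -/
def SPoly (F : Type u) [Field F] (d : ℕ) : Set F[X] :=
  {P | SelfDual P ∧ P.natDegree = 2 * d ∧ P.coeff 0 = 1}

theorem SelfDual.eval_eq {P : F[X]} (h : SelfDual P) (x : Fˣ) :
    P.coeff 0 * P.eval (x : F) = P.eval ((x⁻¹ : Fˣ) : F) * (x : F) ^ P.natDegree := by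
  have h1 := aeval_reverse (F := F) x P
  rwa [h.reverse_eq, coe_aeval_eq_eval, coe_aeval_eq_eval, eval_mul, eval_C] at h1

theorem IsReg.shape (h2 : (2 : F) ≠ 0) {P : F[X]} (h : IsReg P) :
    P.coeff 0 = 1 ∧ Even P.natDegree ∧ 0 < P.natDegree := by
  obtain ⟨hP, h1, h1', hirr⟩ := h
  have e1 := hP.eval_eq 1
  simp only [Units.val_one, inv_one, one_pow, mul_one] at e1
  have hc : P.coeff 0 = 1 := by
    have := e1.trans (one_mul _).symm
    exact mul_right_cancel₀ h1 this
  refine ⟨hc, ?_, ?_⟩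
  · have e2 := hP.eval_eq (-1)
    rw [inv_neg, inv_one, Units.val_neg, Units.val_one, hc, one_mul] at e2
    by_contra hodd
    rw [Nat.not_even_iff_odd] at hodd
    rw [hodd.neg_one_pow, mul_neg_one, eq_neg_iff_add_eq_zero, ← two_mul] at e2
    exact h1' ((mul_eq_zero.1 e2).resolve_left h2)
  · rcases hirr with hi | ⟨f, hfi, hfm, hf0, -, rfl⟩
    · exact hi.natDegree_pos
    · rw [natDegree_mul hfi.ne_zero (monic_dual _ hf0).ne_zero]
      have := hfi.natDegree_pos
      omega

theorem IsReg.eq_of_factor {P P' f : F[X]} (h : IsReg P) (h' : IsReg P') (hf : Irreducible f) (hfm : f.Monic)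
    (hP : f ∣ P) (hP' : f ∣ P') : P = P' := by
  have key : ∀ Q : F[X], IsReg Q → f ∣ Q → (dual (RingHom.id F) f = f ∧ Q = f) ∨
      (dual (RingHom.id F) f ≠ f ∧ Q = f * dual (RingHom.id F) f) := by
    rintro Q ⟨hQ, -, -, hirr⟩ hfQ
    rcases hirr with hi | ⟨g, hgi, hgm, hg0, hgd, rfl⟩
    · have := eq_of_monic_of_associated hfm hQ.1 (hf.associated_of_dvd hi hfQ)
      subst this
      exact Or.inl ⟨hQ.2.2, rfl⟩
    · have hgg : dual (RingHom.id F) (dual (RingHom.id F) g) = g := dual_dual _ (fun a => rfl) hgm hg0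
      rcases hf.prime.dvd_or_dvd hfQ with hd | hd
      · have := eq_of_monic_of_associated hfm hgm (hf.associated_of_dvd hgi hd)
        subst this
        exact Or.inr ⟨hgd, rfl⟩
      · have hgi' := irreducible_dual (RingHom.id F) (fun a => rfl) hgi hgm hg0
        have := eq_of_monic_of_associated hfm (monic_dual _ hg0) (hf.associated_of_dvd hgi' hd)
        subst this
        exact Or.inr ⟨by rw [hgg]; exact Ne.symm hgd, by rw [hgg, mul_comm]⟩
  rcases key P h hP with ⟨a, rfl⟩ | ⟨a, rfl⟩ <;> rcases key P' h' hP' with ⟨b, rfl⟩ | ⟨b, rfl⟩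
  · rfl
  · exact absurd a b
  · exact absurd b a
  · rfl

theorem prod_selfDual (M : Multiset F[X]) (h : ∀ P ∈ M, SelfDual P ∧ P.coeff 0 = 1 ∧ Even P.natDegree) :
    SelfDual M.prod ∧ M.prod.coeff 0 = 1 ∧ Even M.prod.natDegree := by
  induction M using Multiset.induction_on with
  | empty => simpa using selfDual_one
  | cons P M ih =>
    obtain ⟨a, b, c⟩ := h P (Multiset.mem_cons_self _ _)
    obtain ⟨a', b', c'⟩ := ih fun Q hQ => h Q (Multiset.mem_cons_of_mem hQ)
    rw [Multiset.prod_cons]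
    refine ⟨a.mul a', by rw [mul_coeff_zero, b, b', one_mul], ?_⟩
    rw [natDegree_mul a.1.ne_zero a'.1.ne_zero]
    exact c.add c'

theorem reg_prod_inj : ∀ {M M' : Multiset F[X]}, (∀ P ∈ M, IsReg P) → (∀ P ∈ M', IsReg P) →
    M.prod = M'.prod → M = M' := by
  classical
  intro M
  induction M using Multiset.induction_on with
  | empty =>
    intro M' _ h' he
    refine (Multiset.eq_zero_of_forall_notMem fun P hP => ?_).symm
    have hu : IsUnit P := isUnit_of_dvd_one (by rw [← Multiset.prod_zero (M := F[X]), he]; exact Multiset.dvd_prod hP)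
    obtain ⟨-, -, -, hirr⟩ := h' P hP
    rcases hirr with hi | ⟨g, hgi, -, -, -, rfl⟩
    · exact hi.not_isUnit hu
    · exact hgi.not_isUnit (isUnit_of_mul_isUnit_left hu)
  | cons P M ih =>
    intro M' h h' he
    obtain ⟨f, hfi, hfm, hfP⟩ : ∃ f : F[X], Irreducible f ∧ f.Monic ∧ f ∣ P := by
      obtain ⟨hP, -, -, hirr⟩ := h P (Multiset.mem_cons_self _ _)
      rcases hirr with hi | ⟨g, hgi, hgm, -, -, rfl⟩
      · exact ⟨P, hi, hP.1, dvd_rfl⟩
      · exact ⟨g, hgi, hgm, dvd_mul_right _ _⟩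
    obtain ⟨P', hP', hdvd⟩ := Prime.exists_mem_multiset_dvd hfi.prime
      (he ▸ hfP.trans (Multiset.dvd_prod (Multiset.mem_cons_self P M)))
    obtain rfl := IsReg.eq_of_factor (h P (Multiset.mem_cons_self _ _)) (h' P' hP') hfi hfm hfP hdvd
    obtain ⟨M'', rfl⟩ := Multiset.exists_cons_of_mem hP'
    rw [Multiset.prod_cons, Multiset.prod_cons] at he
    rw [ih (fun Q hQ => h Q (Multiset.mem_cons_of_mem hQ)) (fun Q hQ => h' Q (Multiset.mem_cons_of_mem hQ))
      (mul_left_cancel₀ (h P (Multiset.mem_cons_self _ _)).1.1.ne_zero he)]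

theorem card_SPoly_le [Fintype F] (d : ℕ) : Finite (SPoly F d) ∧ Nat.card (SPoly F d) ≤ Fintype.card F ^ d := by
  let c : SPoly F d → (Fin d → F) := fun P i => (P : F[X]).coeff ((i : ℕ) + 1)
  have hsym : ∀ P : SPoly F d, ∀ i, i ≤ 2 * d → (P : F[X]).coeff (2 * d - i) = (P : F[X]).coeff i := by
    intro P i hi
    have h := congrArg (fun p : F[X] => p.coeff i) P.2.1.2.2
    rw [coeff_dual, P.2.2.2, map_one, inv_one, one_mul, P.2.2.1, revAt_le hi] at h
    exact h
  have hinj : Function.Injective c := by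
    intro P Q h
    refine Subtype.ext (Polynomial.ext fun i => ?_)
    have hlow : ∀ i, i ≤ d → (P : F[X]).coeff i = (Q : F[X]).coeff i := by
      intro i hi
      rcases Nat.eq_zero_or_pos i with rfl | h0
      · rw [P.2.2.2, Q.2.2.2]
      · have := congrFun h ⟨i - 1, by omega⟩
        simp only [c, Nat.sub_add_cancel h0] at this
        exact this
    rcases Nat.lt_or_ge (2 * d) i with hi | hi
    · rw [coeff_eq_zero_of_natDegree_lt (by rw [P.2.2.1]; exact hi),
        coeff_eq_zero_of_natDegree_lt (by rw [Q.2.2.1]; exact hi)]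
    · rcases Nat.lt_or_ge d i with hd | hd
      · rw [← hsym P i hi, ← hsym Q i hi]; exact hlow _ (by omega)
      · exact hlow i hd
  refine ⟨Finite.of_injective c hinj, (Nat.card_le_card_of_injective c hinj).trans ?_⟩
  rw [Nat.card_eq_fintype_card, Fintype.card_fun, Fintype.card_fin]

end Cfsg.Agent.CN9
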