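import Mathlib

/-!
A product bound for class numbers of symplectic and orthogonal groups.
-/

set_option autoImplicit false

namespace Cfsg.Agent.CN9

open Finset

/-- a product of `1 / (1 - y z^i)` is at most `1 / (1 - y ∑ z^i)` -/
theorem geom_prod_le {z : ℝ} (hz0 : 0 ≤ z) (hz1 : z < 1) {y : ℝ} (hy : 0 ≤ y) {a : ℕ}
    (hc : y * z ^ a / (1 - z) < 1) (K : ℕ) :
    0 ≤ ∏ i ∈ Ico a K, 1 / (1 - y * z ^ i) ∧
    ∏ i ∈ Ico a K, 1 / (1 - y * z ^ i) ≤ 1 / (1 - y * z ^ a / (1 - z)) := by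
  have h1z : 0 < 1 - z := by linarith
  set S : ℕ → ℝ := fun K => y * (z ^ a - z ^ K) / (1 - z) with hS
  have hterm : ∀ i, a ≤ i → y * z ^ i ≤ y * z ^ a / (1 - z) := by
    intro i hi
    rw [le_div_iff₀ h1z]
    calc y * z ^ i * (1 - z) ≤ y * z ^ i * 1 := mul_le_mul_of_nonneg_left (by linarith) (by positivity)
      _ ≤ y * z ^ a := by rw [mul_one]; exact mul_le_mul_of_nonneg_left (pow_le_pow_of_le_one hz0 hz1.le hi) hy
  have hpos : ∀ i, a ≤ i → 0 < 1 - y * z ^ i := fun i hi => by linarith [hterm i hi]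
  have h0 : 0 ≤ ∏ i ∈ Ico a K, 1 / (1 - y * z ^ i) :=
    prod_nonneg fun i hi => (div_pos one_pos (hpos i (mem_Ico.1 hi).1)).le
  refine ⟨h0, ?_⟩
  rcases Nat.lt_or_ge K a with hK | hK
  · rw [Ico_eq_empty (by omega), prod_empty, le_div_iff₀ (by linarith)]
    have : 0 ≤ y * z ^ a / (1 - z) := by positivity
    linarith
  have key : ∀ K, a ≤ K → (∏ i ∈ Ico a K, 1 / (1 - y * z ^ i)) * (1 - S K) ≤ 1 := by
    intro K hK
    induction K, hK using Nat.le_induction with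
    | base => simp [S]
    | succ K hK ih =>
      rw [prod_Ico_succ_top hK]
      have hstep : S (K + 1) = S K + y * z ^ K := by
        simp only [S]
        field_simp
        ring
      have hS0 : 0 ≤ S K := by
        have : z ^ K ≤ z ^ a := pow_le_pow_of_le_one hz0 hz1.le hK
        exact div_nonneg (mul_nonneg hy (by linarith)) h1z.le
      have hv : 0 ≤ y * z ^ K := by positivity
      have hle : 1 - S (K + 1) ≤ (1 - S K) * (1 - y * z ^ K) := by rw [hstep]; nlinarith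
      have hP : 0 ≤ ∏ i ∈ Ico a K, 1 / (1 - y * z ^ i) :=
        prod_nonneg fun i hi => (div_pos one_pos (hpos i (mem_Ico.1 hi).1)).le
      calc (∏ i ∈ Ico a K, 1 / (1 - y * z ^ i)) * (1 / (1 - y * z ^ K)) * (1 - S (K + 1))
          ≤ (∏ i ∈ Ico a K, 1 / (1 - y * z ^ i)) * (1 / (1 - y * z ^ K)) * ((1 - S K) * (1 - y * z ^ K)) :=
            mul_le_mul_of_nonneg_left hle (mul_nonneg hP (div_pos one_pos (hpos K hK)).le)
        _ = (∏ i ∈ Ico a K, 1 / (1 - y * z ^ i)) * (1 - S K) := by field_simp [(hpos K hK).ne']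
        _ ≤ 1 := ih
  rw [le_div_iff₀ (by linarith)]
  refine le_trans (mul_le_mul_of_nonneg_left ?_ h0) (key K hK)
  have hzK : 0 ≤ y * z ^ K / (1 - z) := by positivity
  simp only [S, mul_sub, sub_div]
  linarith

/-- the geometric factor -/
theorem geom_factor {y : ℝ} (hy0 : 0 ≤ y) (hy1 : y < 1) (N : ℕ) : ∑ d ∈ range N, y ^ d ≤ 1 / (1 - y) := by
  rw [le_div_iff₀ (by linarith), geom_sum_mul_neg]
  linarith [pow_nonneg hy0 N]

theorem prod_split_le {f : ℕ → ℝ} {a m : ℕ} (ha : a ≤ m) (hf : ∀ i, a ≤ i → 1 ≤ f i) (K : ℕ) :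
    ∏ i ∈ Ico a K, f i ≤ (∏ i ∈ Ico a m, f i) * ∏ i ∈ Ico m (max K m), f i := by
  rw [prod_Ico_consecutive _ ha (le_max_right _ _)]
  refine prod_le_prod_of_subset_of_one_le (fun i hi => ?_)
    (fun i hi => zero_le_one.trans (hf i (mem_Ico.1 hi).1)) fun i hi _ => hf i (mem_Ico.1 hi).1
  simp only [mem_Ico] at hi ⊢
  omega

theorem sp_prod_le (n : ℕ) :
    (∏ k ∈ Ico 2 (2 * n + 1), 1 / (1 - 3 * (1 / 3 : ℝ) ^ k)) *
      (∏ l ∈ Ico 1 (n + 1), 1 / (1 - (1 / 3 : ℝ) ^ l) * (1 - (1 / 3 : ℝ) ^ (2 * l))) ^ 4 ≤ 54 / 5 := by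
  have e1 : ∀ k, 2 ≤ k → 3 * (1 / 3 : ℝ) ^ k < 1 := fun k hk => by
    have : (1 / 3 : ℝ) ^ k ≤ (1 / 3 : ℝ) ^ 2 := pow_le_pow_of_le_one (by norm_num) (by norm_num) hk
    norm_num at this ⊢
    linarith
  have hA : ∏ k ∈ Ico 2 (2 * n + 1), 1 / (1 - 3 * (1 / 3 : ℝ) ^ k) ≤
      (∏ k ∈ Ico 2 9, 1 / (1 - 3 * (1 / 3 : ℝ) ^ k)) * (1 / (1 - 3 * (1 / 3 : ℝ) ^ 9 / (1 - 1 / 3))) := by
    have hone : ∀ k, 2 ≤ k → 1 ≤ 1 / (1 - 3 * (1 / 3 : ℝ) ^ k) := fun k hk => by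
      have h0 : 0 ≤ 3 * (1 / 3 : ℝ) ^ k := by positivity
      rw [one_le_div (by linarith [e1 k hk])]
      linarith
    refine (prod_split_le (by norm_num : 2 ≤ 9) hone _).trans (mul_le_mul_of_nonneg_left ?_ ?_)
    · exact (geom_prod_le (by norm_num) (by norm_num) (by norm_num) (by norm_num) _).2
    · exact prod_nonneg fun k hk => zero_le_one.trans (hone k (mem_Ico.1 hk).1)
  have hB : ∏ l ∈ Ico 1 (n + 1), 1 / (1 - (1 / 3 : ℝ) ^ l) * (1 - (1 / 3 : ℝ) ^ (2 * l)) ≤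
      (∏ l ∈ Ico 1 9, 1 / (1 - (1 / 3 : ℝ) ^ l) * (1 - (1 / 3 : ℝ) ^ (2 * l))) *
        (1 / (1 - 1 * (1 / 3 : ℝ) ^ 9 / (1 - 1 / 3))) := by
    have hlt : ∀ l, 1 ≤ l → (1 / 3 : ℝ) ^ l < 1 := fun l hl => pow_lt_one₀ (by norm_num) (by norm_num) (by omega)
    have hone : ∀ l, 1 ≤ l → 1 ≤ 1 / (1 - (1 / 3 : ℝ) ^ l) * (1 - (1 / 3 : ℝ) ^ (2 * l)) := fun l hl => by
      rw [div_mul_eq_mul_div, one_mul, one_le_div (by linarith [hlt l hl]), pow_mul']
      nlinarith [hlt l hl, pow_nonneg (by norm_num : (0 : ℝ) ≤ 1 / 3) l]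
    refine (prod_split_le (by norm_num : 1 ≤ 9) hone _).trans (mul_le_mul_of_nonneg_left ?_ ?_)
    · refine le_trans ?_ (geom_prod_le (z := 1 / 3) (by norm_num) (by norm_num) zero_le_one (a := 9) (by norm_num)
        (max (n + 1) 9)).2
      refine prod_le_prod (fun l hl => zero_le_one.trans (hone l (by simp at hl; omega))) fun l hl => ?_
      rw [one_mul]
      refine mul_le_of_le_one_right ?_ ?_
      · exact (div_pos one_pos (by linarith [hlt l (by simp at hl; omega)])).le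
      · linarith [pow_nonneg (by norm_num : (0 : ℝ) ≤ 1 / 3) (2 * l)]
    · exact prod_nonneg fun l hl => zero_le_one.trans (hone l (mem_Ico.1 hl).1)
  have hB0 : 0 ≤ ∏ l ∈ Ico 1 (n + 1), 1 / (1 - (1 / 3 : ℝ) ^ l) * (1 - (1 / 3 : ℝ) ^ (2 * l)) :=
    prod_nonneg fun l hl => by
      have hl1 : 1 ≤ l := (mem_Ico.1 hl).1
      have a : (1 / 3 : ℝ) ^ l < 1 := pow_lt_one₀ (by norm_num) (by norm_num) (by omega)
      have b : (1 / 3 : ℝ) ^ (2 * l) < 1 := pow_lt_one₀ (by norm_num) (by norm_num) (by omega)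
      exact mul_nonneg (div_pos one_pos (by linarith)).le (by linarith)
  refine (mul_le_mul hA (pow_le_pow_left₀ hB0 hB 4) (pow_nonneg hB0 4) ?_).trans ?_
  · refine mul_nonneg (prod_nonneg fun k hk => ?_) (by norm_num)
    exact (div_pos one_pos (by linarith [e1 k (mem_Ico.1 hk).1])).le
  · norm_num [prod_Ico_succ_top]

end Cfsg.Agent.CN9
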