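import Cfsg.Agent.ClassNum9.Sp.Weight
import Cfsg.Agent.ClassNum9.Sp.Numeric
import Cfsg.Agent.Lib.GLSemisimple.SpClasses

/-!
`k(Sp_{2n}(q)) ≤ 10.8 q^n` for odd `q`.
-/

set_option autoImplicit false

namespace Cfsg.Agent.CN9

open Polynomial Finset

universe u

/-- the code space -/
abbrev CodeSp (F : Type u) [Field F] (m n : ℕ) : Type u :=
  (Fin (m + 1) → Σ d : Fin (n + 1), SPoly F d) × (Fin 4 → Fin n → Bool)

/-- weight -/
noncomputable def codeWt {F : Type u} [Field F] {m n : ℕ} (x : CodeSp F m n) : ℕ :=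
  ∑ k : Fin (m + 1), ((k : ℕ) + 1) * ((x.1 k).1 : ℕ) + ∑ i, ∑ l : Fin n, ((l : ℕ) + 1) * (x.2 i l).toNat

variable {F : Type u} [Field F] [Fintype F]

theorem card_code_le (hq : 3 ≤ Fintype.card F) {n m : ℕ} (hm : m + 1 = 2 * n) :
    (Nat.card {x : CodeSp F m n // codeWt x = n} : ℝ) ≤ 54 / 5 * (Fintype.card F : ℝ) ^ n := by
  classical
  set q := Fintype.card F with hqdef
  haveI : ∀ d, Finite (SPoly F d) := fun d => (card_SPoly_le d).1
  haveI : ∀ d, Fintype (SPoly F d) := fun d => Fintype.ofFinite _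
  have hq3 : (3 : ℝ) ≤ q := by exact_mod_cast hq
  set z : ℝ := 1 / (q : ℝ) with hz
  have hz0 : 0 < z := by positivity
  have hqz : (q : ℝ) * z = 1 := by rw [hz]; field_simp
  have hz3 : z ≤ 1 / 3 := one_div_le_one_div_of_le (by norm_num) hq3
  let T := Σ d : Fin (n + 1), SPoly F d
  let R := (Fin m → T) × (Fin 4 → Fin n → Bool)
  let wR : R → ℕ := fun r => ∑ k : Fin m, ((k : ℕ) + 2) * ((r.1 k).1 : ℕ) + ∑ i, ∑ l : Fin n, ((l : ℕ) + 1) * (r.2 i l).toNat
  -- removing the first polynomial
  let rest : {x : CodeSp F m n // codeWt x = n} → Σ r : R, {t : T // (t.1 : ℕ) + wR r = n} := fun x =>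
    ⟨(fun k => x.1.1 k.succ, x.1.2), x.1.1 0, by
      have h := x.2
      rw [codeWt, Fin.sum_univ_succ] at h
      simp only [Fin.val_zero, zero_add, one_mul, Fin.val_succ, add_assoc] at h
      simp only [wR]
      rw [show (1 : ℕ) + 1 = 2 from rfl] at h
      exact h⟩
  have hinj : Function.Injective rest := by
    intro x y h
    refine Subtype.ext (Prod.ext (funext fun k => ?_) (congrArg (fun p : Σ r : R, {t : T // (t.1 : ℕ) + wR r = n} => p.1.2) h))
    cases k using Fin.cases with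
    | zero => exact congrArg (fun p : Σ r : R, {t : T // (t.1 : ℕ) + wR r = n} => p.2.1) h
    | succ k => exact congrArg (fun p : Σ r : R, {t : T // (t.1 : ℕ) + wR r = n} => p.1.1 k) h
  have hfib : ∀ r : R, (Fintype.card {t : T // (t.1 : ℕ) + wR r = n} : ℝ) ≤ (q : ℝ) ^ n * z ^ wR r := by
    intro r
    rcases Nat.lt_or_ge n (wR r) with hlt | hle
    · rw [Fintype.card_eq_zero_iff.2 ⟨fun t => by have := t.2; omega⟩]
      push_cast
      positivity
    · let f : {t : T // (t.1 : ℕ) + wR r = n} → SPoly F (n - wR r) := fun t =>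
        ⟨(t.1.2 : F[X]), by
          obtain ⟨a, b, c⟩ := t.1.2.2
          exact ⟨a, by rw [b]; have := t.2; omega, c⟩⟩
      have hf : Function.Injective f := by
        rintro ⟨⟨d, P⟩, hd⟩ ⟨⟨d', P'⟩, hd'⟩ h
        obtain rfl : d = d' := Fin.ext (by simp only at hd hd'; omega)
        exact Subtype.ext (congrArg (Sigma.mk d) (Subtype.ext (congrArg Subtype.val h :)))
      have hc : Fintype.card {t : T // (t.1 : ℕ) + wR r = n} ≤ q ^ (n - wR r) := by
        refine (Fintype.card_le_of_injective f hf).trans ?_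
        rw [← Nat.card_eq_fintype_card]
        exact (card_SPoly_le (F := F) (n - wR r)).2
      calc (Fintype.card {t : T // (t.1 : ℕ) + wR r = n} : ℝ) ≤ ((q ^ (n - wR r) : ℕ) : ℝ) := Nat.cast_le.2 hc
        _ = (q : ℝ) ^ n * z ^ wR r := by
          push_cast
          conv_rhs => rw [show n = (n - wR r) + wR r by omega, pow_add, mul_assoc, ← mul_pow, hqz, one_pow, mul_one]
  have h1 : (Nat.card {x : CodeSp F m n // codeWt x = n} : ℝ) ≤ (q : ℝ) ^ n * ∑ r : R, z ^ wR r := by
    rw [mul_sum]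
    refine le_trans ?_ (sum_le_sum fun r _ => hfib r)
    rw [← Nat.cast_sum, ← Fintype.card_sigma, ← Nat.card_eq_fintype_card (α := Σ r : R, _)]
    exact Nat.cast_le.2 (Nat.card_le_card_of_injective rest hinj)
  refine h1.trans ?_
  rw [mul_comm (54 / 5 : ℝ)]
  refine mul_le_mul_of_nonneg_left ?_ (by positivity)
  -- the sum factors
  have hsplit : ∑ r : R, z ^ wR r =
      (∏ k : Fin m, ∑ t : T, z ^ (((k : ℕ) + 2) * (t.1 : ℕ))) *
        ∏ _i : Fin 4, ∏ l : Fin n, ∑ b : Bool, z ^ (((l : ℕ) + 1) * b.toNat) := by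
    have hF2 : ∏ _i : Fin 4, ∏ l : Fin n, ∑ b : Bool, z ^ (((l : ℕ) + 1) * b.toNat) =
        ∑ ε : Fin 4 → Fin n → Bool, ∏ i, ∏ l : Fin n, z ^ (((l : ℕ) + 1) * (ε i l).toNat) := by
      rw [← Fintype.prod_sum fun _i : Fin 4 => fun e : Fin n → Bool => ∏ l : Fin n, z ^ (((l : ℕ) + 1) * (e l).toNat)]
      refine prod_congr rfl fun _ _ => ?_
      exact Fintype.prod_sum fun l : Fin n => fun b : Bool => z ^ (((l : ℕ) + 1) * b.toNat)
    rw [Fintype.prod_sum fun k : Fin m => fun t : T => z ^ (((k : ℕ) + 2) * (t.1 : ℕ)), hF2, sum_mul_sum,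
      ← Fintype.sum_prod_type']
    refine sum_congr rfl fun r _ => ?_
    simp only [wR, pow_add, ← prod_pow_eq_pow_sum]
  rw [hsplit]
  have hT : ∀ k : Fin m, ∑ t : T, z ^ (((k : ℕ) + 2) * (t.1 : ℕ)) ≤ 1 / (1 - 3 * (1 / 3 : ℝ) ^ ((k : ℕ) + 2)) := by
    intro k
    set y := (q : ℝ) * z ^ ((k : ℕ) + 2) with hy
    have hy3 : y ≤ 3 * (1 / 3 : ℝ) ^ ((k : ℕ) + 2) := by
      rw [hy, pow_succ', ← mul_assoc, hqz, one_mul, pow_succ' (1 / 3 : ℝ), ← mul_assoc]
      norm_num only [one_mul]
      exact pow_le_pow_left₀ hz0.le hz3 _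
    have hy1 : 3 * (1 / 3 : ℝ) ^ ((k : ℕ) + 2) < 1 := by
      rw [pow_succ', ← mul_assoc]
      norm_num only [one_mul]
      exact pow_lt_one₀ (by norm_num) (by norm_num) (by omega)
    have hy0 : 0 ≤ y := by positivity
    rw [Fintype.sum_sigma]
    refine le_trans (sum_le_sum (g := fun d : Fin (n + 1) => y ^ (d : ℕ)) fun d _ => ?_) ?_
    · simp only []
      rw [sum_const, nsmul_eq_mul, Finset.card_univ, ← Nat.card_eq_fintype_card, hy, mul_pow, ← pow_mul]
      refine mul_le_mul_of_nonneg_right ?_ (by positivity)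
      exact_mod_cast (card_SPoly_le (F := F) d).2
    · rw [Fin.sum_univ_eq_sum_range (fun d => y ^ d)]
      refine (geom_factor hy0 (hy3.trans_lt hy1) _).trans ?_
      exact one_div_le_one_div_of_le (by linarith) (by linarith)
  have hbit : ∀ l : Fin n, ∑ b : Bool, z ^ (((l : ℕ) + 1) * b.toNat) ≤
      1 / (1 - (1 / 3 : ℝ) ^ ((l : ℕ) + 1)) * (1 - (1 / 3 : ℝ) ^ (2 * ((l : ℕ) + 1))) := by
    intro l
    have a : (1 / 3 : ℝ) ^ ((l : ℕ) + 1) < 1 := pow_lt_one₀ (by norm_num) (by norm_num) (by omega)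
    have b : z ^ ((l : ℕ) + 1) ≤ (1 / 3 : ℝ) ^ ((l : ℕ) + 1) := pow_le_pow_left₀ hz0.le hz3 _
    simp only [Fintype.sum_bool, Bool.toNat_true, Bool.toNat_false, mul_one, mul_zero, pow_zero]
    rw [div_mul_eq_mul_div, one_mul, le_div_iff₀ (by linarith), pow_mul']
    nlinarith
  refine le_trans (mul_le_mul (prod_le_prod (fun k _ => sum_nonneg fun t _ => by positivity) fun k _ => hT k)
    (prod_le_prod (fun i _ => prod_nonneg fun l _ => sum_nonneg fun b _ => by positivity)
      fun i _ => prod_le_prod (fun l _ => sum_nonneg fun b _ => by positivity) fun l _ => hbit l)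
    (prod_nonneg fun i _ => prod_nonneg fun l _ => sum_nonneg fun b _ => by positivity)
    (prod_nonneg fun k _ => le_trans (sum_nonneg fun t _ => by positivity) (hT k))) ?_
  rw [prod_const, Finset.card_univ, Fintype.card_fin]
  refine le_trans (le_of_eq ?_) (sp_prod_le n)
  rw [prod_Ico_eq_prod_range, prod_Ico_eq_prod_range, show 2 * n + 1 - 2 = m by omega, Nat.add_sub_cancel,
    Fin.prod_univ_eq_prod_range (fun k => 1 / (1 - 3 * (1 / 3 : ℝ) ^ (k + 2))) m,
    Fin.prod_univ_eq_prod_range (fun l => 1 / (1 - (1 / 3 : ℝ) ^ (l + 1)) * (1 - (1 / 3 : ℝ) ^ (2 * (l + 1)))) n]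
  simp only [add_comm 2, add_comm 1]

open Matrix in
theorem card_classes_Sp_bound (hodd : Odd (Fintype.card F)) (n : ℕ) (hn : 1 ≤ n) :
    5 * Nat.card (ConjClasses ↥(Matrix.symplecticGroup (Fin n) F)) ≤ 54 * Fintype.card F ^ n := by
  classical
  have h2 : (2 : F) ≠ 0 := Ring.two_ne_zero fun h => by
    have h1 := FiniteField.even_card_of_char_two (F := F) h
    rw [Nat.odd_iff] at hodd
    omega
  have hq : 3 ≤ Fintype.card F := by
    have h1 := Fintype.one_lt_card (α := F)
    obtain ⟨r, hr⟩ := hodd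
    omega
  let B : LinearMap.BilinForm F (Fin n ⊕ Fin n → F) := Matrix.toBilin' (Matrix.J (Fin n) F)
  have hB : ∀ x y, B x y = x ⬝ᵥ Matrix.J (Fin n) F *ᵥ y := fun x y => Matrix.toBilin'_apply' _ x y
  have hBsymm : ∀ x y, B x y = (-1 : F) * B y x := by
    intro x y
    rw [hB, hB, Matrix.dotProduct_mulVec, ← Matrix.mulVec_transpose, Matrix.J_transpose, Matrix.neg_mulVec,
      neg_dotProduct, dotProduct_comm, neg_one_mul]
  have hdot : ∀ (A : Matrix (Fin n ⊕ Fin n) (Fin n ⊕ Fin n) F) x y,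
      (A *ᵥ x) ⬝ᵥ Matrix.J (Fin n) F *ᵥ (A *ᵥ y) = x ⬝ᵥ (Aᵀ * Matrix.J (Fin n) F * A) *ᵥ y := fun A x y => by
    rw [← Matrix.mulVec_mulVec, ← Matrix.mulVec_mulVec, Matrix.dotProduct_mulVec x Aᵀ, Matrix.vecMul_transpose]
  have hBnd : NdOn B (⊤ : Submodule F (Fin n ⊕ Fin n → F)) := by
    intro x _ hx
    have h1 : Matrix.J (Fin n) F *ᵥ x = 0 := funext fun i => by
      have h := hBsymm x (Pi.single i 1)
      rw [hx _ Submodule.mem_top, hB, single_dotProduct, one_mul, neg_one_mul, eq_comm, neg_eq_zero] at h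
      exact h
    have h3 : (Matrix.J (Fin n) F * Matrix.J (Fin n) F) *ᵥ x = 0 := by
      rw [← Matrix.mulVec_mulVec, h1, Matrix.mulVec_zero]
    rwa [Matrix.J_squared, Matrix.neg_mulVec, Matrix.one_mulVec, neg_eq_zero] at h3
  let toEquiv : ↥(Matrix.symplecticGroup (Fin n) F) → ((Fin n ⊕ Fin n → F) ≃ₗ[F] (Fin n ⊕ Fin n → F)) := fun a =>
    LinearEquiv.ofLinearMap (Matrix.toLin' (a : Matrix (Fin n ⊕ Fin n) (Fin n ⊕ Fin n) F))
      (Matrix.toLin' ((a⁻¹ : ↥(Matrix.symplecticGroup (Fin n) F)) : Matrix (Fin n ⊕ Fin n) (Fin n ⊕ Fin n) F))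
      (by rw [← Matrix.toLin'_mul, ← Submonoid.coe_mul, mul_inv_cancel]; exact Matrix.toLin'_one)
      (by rw [← Matrix.toLin'_mul, ← Submonoid.coe_mul, inv_mul_cancel]; exact Matrix.toLin'_one)
  have happ : ∀ a x, toEquiv a x = (a : Matrix (Fin n ⊕ Fin n) (Fin n ⊕ Fin n) F) *ᵥ x := fun a x => rfl
  have haut : ∀ a, FormAut (-1) B (toEquiv a) := fun a => ⟨Or.inr rfl, hBsymm, fun x y => by
    rw [happ, happ, hB, hB, hdot, SymplecticGroup.mem_iff'.1 a.2]⟩
  choose M hM hMN using fun a => exists_normalised h2 (haut a) hBnd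
  have hdim : ∀ a, ((M a).map fun z => z.1.2 * z.1.1.natDegree).sum = 2 * n := fun a => by
    rw [decomp_dim h2 (haut a) (hM a) (fun _ _ => Submodule.mem_top) hBnd, finrank_top, Module.finrank_fintype_fun_eq_card,
      Fintype.card_sum, Fintype.card_fin, two_mul]
  have hw : ∀ a, (∀ k, (codePoly (M a) k).natDegree % 2 = 0) ∧
      ∑ k ∈ Icc 1 (2 * n), k * ((codePoly (M a) k).natDegree / 2) + ∑ l ∈ Icc 1 n, l * bitSum (M a) l = n := fun a =>
    code_weight h2 (hM a).valid (hdim a)
  obtain ⟨m, hm⟩ : ∃ m, m + 1 = 2 * n := ⟨2 * n - 1, by omega⟩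
  have hdle : ∀ a (k : Fin (m + 1)), (codePoly (M a) ((k : ℕ) + 1)).natDegree / 2 < n + 1 := fun a k => by
    have h := (hw a).2
    have h1 := single_le_sum (f := fun k => k * ((codePoly (M a) k).natDegree / 2)) (fun _ _ => Nat.zero_le _)
      (show (k : ℕ) + 1 ∈ Icc 1 (2 * n) by simp; omega)
    have h2' := Nat.le_mul_of_pos_left ((codePoly (M a) ((k : ℕ) + 1)).natDegree / 2) (show 0 < (k : ℕ) + 1 by omega)
    omega
  let code : ↥(Matrix.symplecticGroup (Fin n) F) → CodeSp F m n := fun a =>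
    (fun k => ⟨⟨_, hdle a k⟩, codePoly (M a) ((k : ℕ) + 1), (codePoly_shape h2 _ _).1,
      by show _ = 2 * ((codePoly (M a) ((k : ℕ) + 1)).natDegree / 2); have := (hw a).1 ((k : ℕ) + 1); omega,
      (codePoly_shape h2 _ _).2.1⟩, fun i l => codeBits (M a) ((l : ℕ) + 1) i)
  have hcw : ∀ a, codeWt (code a) = n := fun a => by
    refine Eq.trans ?_ (hw a).2
    simp only [codeWt, code]
    congr 1
    · rw [Fin.sum_univ_eq_sum_range (fun k => (k + 1) * ((codePoly (M a) (k + 1)).natDegree / 2)) (m + 1),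
        ← Finset.Ico_add_one_right_eq_Icc, sum_Ico_eq_sum_range, hm, Nat.add_sub_cancel]
      simp only [add_comm 1]
    · rw [sum_comm, Fin.sum_univ_eq_sum_range (fun l => ∑ i : Fin 4, (l + 1) * (codeBits (M a) (l + 1) i).toNat) n,
        ← Finset.Ico_add_one_right_eq_Icc, sum_Ico_eq_sum_range, Nat.add_sub_cancel]
      refine sum_congr rfl fun l _ => ?_
      rw [← mul_sum, add_comm 1 l]
      rfl
  have hconj : ∀ a b, code a = code b → IsConj a b := by
    intro a b hab
    have hMM : M a = M b := by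
      refine code_inj h2 (hM a).valid (hM b).valid (hMN a) (hMN b) (fun k hk => ?_) fun l hl => funext fun i => ?_
      · rcases Nat.lt_or_ge (2 * n) k with hlt | hle
        · have hzero : ∀ c, codePoly (M c) k = 1 := by
            intro c
            have hnone : ∀ z ∈ M c, z.1.2 ≠ k := by
              intro z hz he
              have h1 : z.1.2 * z.1.1.natDegree ≤ 2 * n := hdim c ▸ Multiset.le_sum_of_mem
                (Multiset.mem_map_of_mem (fun z : (F[X] × ℕ) × Bool => z.1.2 * z.1.1.natDegree) hz)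
              have hpos : 1 ≤ z.1.1.natDegree := by
                rcases ((hM c).valid z hz).2 with ⟨hr, -⟩ | ⟨s, -, hs, -⟩ | ⟨s, -, hs, -⟩
                · exact (hr.shape h2).2.2
                · rw [hs, natDegree_X_sub_C]
                · rw [hs, natDegree_pow, natDegree_X_sub_C]; omega
              have h3 := Nat.le_mul_of_pos_right z.1.2 hpos
              omega
            have hcnt : ∀ P ν, ((P, k), ν) ∉ M c := fun P ν hm => hnone _ hm rfl
            have hsf : splitFlag 0 false = (0, false, false) := rfl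
            have hreg0 : regPart (M c) k = 0 := by
              simp only [regPart]
              rw [Multiset.filter_eq_nil.2 fun z hz h => hnone z hz h.1, Multiset.map_zero]
            simp [codePoly, hreg0, sqPow, linMult, linFlag, hcnt, hsf]
          rw [hzero, hzero]
        · have hk' : k - 1 < m + 1 := by omega
          have h := congrArg (fun x : CodeSp F m n => ((x.1 ⟨k - 1, hk'⟩).2 : F[X])) hab
          simp only [code, Nat.sub_add_cancel hk] at h
          exact h
      · rcases Nat.lt_or_ge n l with hlt | hle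
        · have hzero : ∀ c, bitSum (M c) l = 0 := by
            intro c
            by_contra hne
            have h := expDeg_code h2 (hM c).valid (show 1 ≤ 2 * l by omega)
            rw [if_pos ⟨l, two_mul l⟩, Nat.mul_div_cancel_left l two_pos] at h
            have h0 : expDeg (M c) (2 * l) = 0 := by
              simp only [expDeg]
              refine Multiset.sum_eq_zero fun x hx => ?_
              obtain ⟨z, hz, rfl⟩ := Multiset.mem_map.1 hx
              split_ifs with he
              · have h1 : z.1.2 * z.1.1.natDegree ≤ 2 * n := hdim c ▸ Multiset.le_sum_of_mem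
                  (Multiset.mem_map_of_mem (fun z : (F[X] × ℕ) × Bool => z.1.2 * z.1.1.natDegree) hz)
                by_contra hd
                have h3 := Nat.le_mul_of_pos_right z.1.2 (Nat.pos_of_ne_zero hd)
                omega
              · rfl
            omega
          have hb : ∀ c, codeBits (M c) l i = false := fun c => by
            have h := (sum_eq_zero_iff.1 (hzero c)) i (mem_univ i)
            cases hh : codeBits (M c) l i
            · rfl
            · rw [hh] at h; simp at h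
          rw [hb, hb]
        · have hl' : l - 1 < n := by omega
          have h := congrArg (fun x : CodeSp F m n => x.2 i ⟨l - 1, hl'⟩) hab
          simp only [code, Nat.sub_add_cancel hl] at h
          exact h
    obtain ⟨f, hfB, hfg⟩ := exists_isometry h2 (haut a) (haut b) hBnd (hM a) (hMM ▸ hM b)
    set c := LinearMap.toMatrix' (f : (Fin n ⊕ Fin n → F) →ₗ[F] (Fin n ⊕ Fin n → F))
    have hc : ∀ x, c *ᵥ x = f x := fun x => by rw [← Matrix.toLin'_apply, Matrix.toLin'_toMatrix']; rfl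
    have hcmem : c ∈ Matrix.symplecticGroup (Fin n) F := by
      rw [SymplecticGroup.mem_iff']
      refine Matrix.toBilin'.injective (LinearMap.ext fun x => LinearMap.ext fun y => ?_)
      rw [Matrix.toBilin'_apply', Matrix.toBilin'_apply', ← hdot]
      rw [hc, hc]
      have := hfB x y
      rw [hB, hB] at this
      exact this
    refine isConj_iff.2 ⟨⟨c, hcmem⟩, ?_⟩
    rw [mul_inv_eq_iff_eq_mul]
    refine Subtype.ext (Matrix.ext_of_mulVec_single fun i => ?_)
    rw [Submonoid.coe_mul, Submonoid.coe_mul, ← Matrix.mulVec_mulVec, ← Matrix.mulVec_mulVec]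
    show c *ᵥ _ = _
    rw [← happ, hc, hfg, happ, ← hc]
  haveI : ∀ d, Finite (SPoly F d) := fun d => (card_SPoly_le d).1
  have hle : Nat.card (ConjClasses ↥(Matrix.symplecticGroup (Fin n) F)) ≤
      Nat.card {x : CodeSp F m n // codeWt x = n} := by
    refine Nat.card_le_card_of_injective (fun C => (⟨code (Quotient.out C), hcw _⟩ : {x : CodeSp F m n // codeWt x = n}))
      fun C C' h => ?_
    have := ConjClasses.mk_eq_mk_iff_isConj.2 (hconj _ _ (congrArg Subtype.val h))
    exact (Quotient.out_eq C).symm.trans (this.trans (Quotient.out_eq C'))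
  have h := card_code_le (F := F) hq hm
  have hle' : (Nat.card (ConjClasses ↥(Matrix.symplecticGroup (Fin n) F)) : ℝ) ≤
      (Nat.card {x : CodeSp F m n // codeWt x = n} : ℝ) := Nat.cast_le.2 hle
  rw [← Nat.cast_le (α := ℝ)]
  push_cast
  linarith

end Cfsg.Agent.CN9
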