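import Cfsg.Agent.ClassNum9.Sp.RegPoly
import Cfsg.Agent.ClassNum9.Iso.Normal

/-!
Labels of symplectic pieces are encoded by self-dual polynomials and bits.
-/

set_option autoImplicit false

namespace Cfsg.Agent.CN9

open Polynomial Cfsg.Agent.GLSemi

universe u

/-- splitting a multiplicity with a flag -/
def splitFlag (j : ℕ) (ν : Bool) : ℕ × Bool × Bool :=
  if j % 2 = 1 then (j / 2, !ν, ν) else if ν then (j / 2 - 1, true, true) else (j / 2, false, false)

theorem splitFlag_inj {j j' : ℕ} {ν ν' : Bool} (h : ν = true → 1 ≤ j) (h' : ν' = true → 1 ≤ j')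
    (he : splitFlag j ν = splitFlag j' ν') : j = j' ∧ ν = ν' := by
  rcases Nat.mod_two_eq_zero_or_one j with hj | hj <;> rcases Nat.mod_two_eq_zero_or_one j' with hj' | hj' <;>
    cases ν <;> cases ν' <;> simp_all [splitFlag] <;> omega

theorem splitFlag_weight {j : ℕ} {ν : Bool} (h : ν = true → 1 ≤ j) :
    2 * (splitFlag j ν).1 + ((splitFlag j ν).2.1.toNat + (splitFlag j ν).2.2.toNat) = j := by
  rcases Nat.mod_two_eq_zero_or_one j with hj | hj <;> cases ν <;> simp_all [splitFlag] <;> omega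

variable {F : Type u} [Field F]

/-- the regular polynomials of a given exponent -/
noncomputable def regPart (M : Multiset ((F[X] × ℕ) × Bool)) (k : ℕ) : Multiset F[X] := by
  classical
  exact (M.filter fun z => z.1.2 = k ∧ IsReg z.1.1).map fun z => z.1.1

/-- the multiplicity of a linear label -/
noncomputable def linMult (M : Multiset ((F[X] × ℕ) × Bool)) (s : F) (k : ℕ) : ℕ := by
  classical
  exact M.count ((X - C s, k), false) + M.count ((X - C s, k), true)

/-- the flag of a linear label -/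
noncomputable def linFlag (M : Multiset ((F[X] × ℕ) × Bool)) (s : F) (k : ℕ) : Bool := by
  classical
  exact decide (((X - C s, k), true) ∈ M)

/-- the power attached to a linear or quadratic label -/
noncomputable def sqPow (M : Multiset ((F[X] × ℕ) × Bool)) (s : F) (k : ℕ) : ℕ := by
  classical
  exact M.count (((X - C s) ^ 2, k), false) + (splitFlag (linMult M s k) (linFlag M s k)).1

/-- the polynomial of an exponent -/
noncomputable def codePoly (M : Multiset ((F[X] × ℕ) × Bool)) (k : ℕ) : F[X] :=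
  (regPart M k).prod * ((X - C 1) ^ 2) ^ sqPow M 1 k * ((X - C (-1)) ^ 2) ^ sqPow M (-1) k

/-- the bits of an exponent -/
noncomputable def codeBits (M : Multiset ((F[X] × ℕ) × Bool)) (l : ℕ) : Fin 4 → Bool :=
  ![(splitFlag (linMult M 1 (2 * l)) (linFlag M 1 (2 * l))).2.1,
    (splitFlag (linMult M 1 (2 * l)) (linFlag M 1 (2 * l))).2.2,
    (splitFlag (linMult M (-1) (2 * l)) (linFlag M (-1) (2 * l))).2.1,
    (splitFlag (linMult M (-1) (2 * l)) (linFlag M (-1) (2 * l))).2.2]

theorem linFlag_pos {M : Multiset ((F[X] × ℕ) × Bool)} {s : F} {k : ℕ} (h : linFlag M s k = true) :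
    1 ≤ linMult M s k := by
  classical
  simp only [linFlag, decide_eq_true_eq] at h
  have := Multiset.one_le_count_iff_mem.2 h
  simp only [linMult]
  omega

theorem regPart_reg (M : Multiset ((F[X] × ℕ) × Bool)) (k : ℕ) : ∀ P ∈ regPart M k, IsReg P := by
  classical
  intro P hP
  simp only [regPart, Multiset.mem_map, Multiset.mem_filter] at hP
  obtain ⟨z, ⟨-, -, hz⟩, rfl⟩ := hP
  exact hz

theorem codePoly_shape (h2 : (2 : F) ≠ 0) (M : Multiset ((F[X] × ℕ) × Bool)) (k : ℕ) :
    SelfDual (codePoly M k) ∧ (codePoly M k).coeff 0 = 1 ∧ Even (codePoly M k).natDegree := by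
  obtain ⟨a, b, c⟩ := prod_selfDual (regPart M k) fun P hP =>
    ⟨(regPart_reg M k P hP).1, ((regPart_reg M k P hP).shape h2).1, ((regPart_reg M k P hP).shape h2).2.1⟩
  have hs : ∀ (s : F) (i : ℕ), (s = 1 ∨ s = -1) → SelfDual (((X - C s) ^ 2) ^ i) ∧
      (((X - C s) ^ 2) ^ i).coeff 0 = 1 ∧ Even (((X - C s) ^ 2) ^ i).natDegree := by
    intro s i hs
    refine ⟨((selfDual_X_sub_C hs).pow 2).pow i, ?_, ?_⟩
    · rw [coeff_zero_eq_eval_zero, eval_pow, eval_pow, eval_sub, eval_X, eval_C, zero_sub, neg_sq, sq,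
        sign_sq hs, one_pow]
    · rw [natDegree_pow, natDegree_pow, natDegree_X_sub_C]
      exact ⟨i, by ring⟩
  obtain ⟨a1, b1, c1⟩ := hs 1 (sqPow M 1 k) (Or.inl rfl)
  obtain ⟨a2, b2, c2⟩ := hs (-1) (sqPow M (-1) k) (Or.inr rfl)
  refine ⟨(a.mul a1).mul a2, ?_, ?_⟩
  · rw [codePoly, mul_coeff_zero, mul_coeff_zero, b, b1, b2, one_mul, one_mul]
  · rw [codePoly, natDegree_mul (a.mul a1).1.ne_zero a2.1.ne_zero, natDegree_mul a.1.ne_zero a1.1.ne_zero]
    exact (c.add c1).add c2

variable (h2 : (2 : F) ≠ 0)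
include h2

theorem codePoly_inj {M M' : Multiset ((F[X] × ℕ) × Bool)} {k : ℕ} (he : codePoly M k = codePoly M' k) :
    regPart M k = regPart M' k ∧ sqPow M 1 k = sqPow M' 1 k ∧ sqPow M (-1) k = sqPow M' (-1) k := by
  classical
  have hne1 : (1 : F) ≠ -1 := fun h => h2 (by rw [← one_add_one_eq_two]; nth_rw 1 [h]; exact neg_add_cancel 1)
  have hroot : ∀ (M : Multiset ((F[X] × ℕ) × Bool)),
      rootMultiplicity 1 (codePoly M k) = 2 * sqPow M 1 k ∧
      rootMultiplicity (-1) (codePoly M k) = 2 * sqPow M (-1) k := by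
    intro M
    have hne : (regPart M k).prod ≠ 0 := (prod_selfDual (regPart M k) fun P hP =>
      ⟨(regPart_reg M k P hP).1, ((regPart_reg M k P hP).shape h2).1, ((regPart_reg M k P hP).shape h2).2.1⟩).1.1.ne_zero
    have h0 : ∀ s : F, (s = 1 ∨ s = -1) → rootMultiplicity s (regPart M k).prod = 0 := by
      intro s hs
      refine rootMultiplicity_eq_zero fun hr => ?_
      rw [IsRoot, eval_multiset_prod, Multiset.prod_eq_zero_iff, Multiset.mem_map] at hr
      obtain ⟨P, hP, hPs⟩ := hr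
      rcases hs with rfl | rfl
      · exact (regPart_reg M k P hP).2.1 hPs
      · exact (regPart_reg M k P hP).2.2.1 hPs
    constructor
    · rw [codePoly, rootMultiplicity_mul (mul_ne_zero (mul_ne_zero hne (pow_ne_zero _ (pow_ne_zero _ (X_sub_C_ne_zero _))))
        (pow_ne_zero _ (pow_ne_zero _ (X_sub_C_ne_zero _)))), rootMultiplicity_mul (mul_ne_zero hne (pow_ne_zero _ (pow_ne_zero _ (X_sub_C_ne_zero _)))),
        h0 1 (Or.inl rfl), ← pow_mul, ← pow_mul, rootMultiplicity_X_sub_C_pow,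
        rootMultiplicity_eq_zero (p := (X - C (-1 : F)) ^ (2 * sqPow M (-1) k)) (fun hr => by
          rw [IsRoot, eval_pow, eval_sub, eval_X, eval_C] at hr
          exact hne1 (sub_eq_zero.1 (eq_zero_of_pow_eq_zero hr))), zero_add, add_zero]
    · rw [codePoly, rootMultiplicity_mul (mul_ne_zero (mul_ne_zero hne (pow_ne_zero _ (pow_ne_zero _ (X_sub_C_ne_zero _))))
        (pow_ne_zero _ (pow_ne_zero _ (X_sub_C_ne_zero _)))), rootMultiplicity_mul (mul_ne_zero hne (pow_ne_zero _ (pow_ne_zero _ (X_sub_C_ne_zero _)))),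
        h0 (-1) (Or.inr rfl), ← pow_mul, ← pow_mul, rootMultiplicity_X_sub_C_pow,
        rootMultiplicity_eq_zero (p := (X - C (1 : F)) ^ (2 * sqPow M 1 k)) (fun hr => by
          rw [IsRoot, eval_pow, eval_sub, eval_X, eval_C] at hr
          exact hne1 (sub_eq_zero.1 (eq_zero_of_pow_eq_zero hr)).symm), zero_add, zero_add]
  have e1 : sqPow M 1 k = sqPow M' 1 k := by
    have := (hroot M).1
    rw [he, (hroot M').1] at this
    omega
  have e2 : sqPow M (-1) k = sqPow M' (-1) k := by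
    have := (hroot M).2
    rw [he, (hroot M').2] at this
    omega
  refine ⟨reg_prod_inj (regPart_reg M k) (regPart_reg M' k) ?_, e1, e2⟩
  rw [codePoly, codePoly, e1, e2] at he
  exact mul_right_cancel₀ (pow_ne_zero _ (pow_ne_zero 2 (X_sub_C_ne_zero (1 : F))))
    (mul_right_cancel₀ (pow_ne_zero _ (pow_ne_zero 2 (X_sub_C_ne_zero (-1 : F)))) he)

omit h2 in
theorem sign_even {z : (F[X] × ℕ) × Bool} (hz : 1 ≤ z.1.2) (h : (-1 : F) * (-1) ^ (z.1.2 - 1) = 1) (h2 : (2 : F) ≠ 0) :
    Even z.1.2 := by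
  by_contra hodd
  rw [Nat.not_even_iff_odd] at hodd
  rw [← pow_succ', Nat.sub_add_cancel hz, hodd.neg_one_pow] at h
  exact h2 (by rw [← one_add_one_eq_two]; nth_rw 1 [← h]; exact neg_add_cancel 1)

omit h2 in
theorem sign_odd {z : (F[X] × ℕ) × Bool} (hz : 1 ≤ z.1.2) (h : (-1 : F) * (-1) ^ (z.1.2 - 1) = -1) (h2 : (2 : F) ≠ 0) :
    Odd z.1.2 := by
  by_contra heven
  rw [Nat.not_odd_iff_even] at heven
  rw [← pow_succ', Nat.sub_add_cancel hz, heven.neg_one_pow] at h
  exact h2 (by rw [← one_add_one_eq_two]; nth_rw 1 [h]; exact neg_add_cancel 1)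

omit h2 in
theorem count_true_le_one [DecidableEq ((F[X] × ℕ) × Bool)] {M : Multiset ((F[X] × ℕ) × Bool)} (hN : Normalised M)
    {z : (F[X] × ℕ) × Bool} (hz : z.2 = true) : M.count z = if z ∈ M then 1 else 0 := by
  split_ifs with hm
  · obtain ⟨M', hM'⟩ := Multiset.exists_cons_of_mem hm
    rw [hM', Multiset.count_cons_self, Multiset.count_eq_zero_of_notMem (hN z hm hz M' hM')]
  · exact Multiset.count_eq_zero_of_notMem hm

/-- codes determine normalised symplectic labels -/
theorem code_inj {M M' : Multiset ((F[X] × ℕ) × Bool)} (hv : ∀ z ∈ M, ValidLabel (-1) z)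
    (hv' : ∀ z ∈ M', ValidLabel (-1) z) (hN : Normalised M) (hN' : Normalised M')
    (hp : ∀ k, 1 ≤ k → codePoly M k = codePoly M' k) (hb : ∀ l, 1 ≤ l → codeBits M l = codeBits M' l) : M = M' := by
  classical
  have hlin : ∀ s : F, (s = 1 ∨ s = -1) → ¬ IsReg (X - C s) ∧ ¬ IsReg ((X - C s) ^ 2) := by
    intro s hs
    rcases hs with rfl | rfl
    · exact ⟨fun h => h.2.1 (by simp), fun h => h.2.1 (by simp)⟩
    · exact ⟨fun h => h.2.2.1 (by simp), fun h => h.2.2.1 (by simp)⟩
  have hdeg : ∀ s s' : F, X - C s ≠ (X - C s') ^ 2 := fun s s' hh => by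
    have := congrArg natDegree hh
    rw [natDegree_pow, natDegree_X_sub_C, natDegree_X_sub_C] at this
    omega
  -- facts about a valid multiset
  have hreg : ∀ (M : Multiset ((F[X] × ℕ) × Bool)), (∀ z ∈ M, ValidLabel (-1) z) → ∀ P k, IsReg P →
      (regPart M k).count P = M.count ((P, k), false) := by
    intro M hv P k hP
    simp only [regPart]
    rw [Multiset.count_map, Multiset.filter_filter, Multiset.count_eq_card_filter_eq]
    congr 1
    refine Multiset.filter_congr fun z hz => ?_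
    constructor
    · rintro ⟨h1, h2', -⟩
      obtain ⟨-, hcase⟩ := hv z hz
      rcases hcase with ⟨-, hν⟩ | ⟨s, hs, hs', -⟩ | ⟨s, hs, hs', -⟩
      · exact (Prod.ext (Prod.ext h1 h2'.symm) hν.symm : ((P, k), false) = z)
      · exact absurd (h1 ▸ hP) (hs' ▸ (hlin s hs).1)
      · exact absurd (h1 ▸ hP) (hs' ▸ (hlin s hs).2)
    · rintro rfl
      exact ⟨rfl, rfl, hP⟩
  have hodd0 : ∀ (M : Multiset ((F[X] × ℕ) × Bool)), (∀ z ∈ M, ValidLabel (-1) z) → ∀ (s : F) k, Odd k →
      linMult M s k = 0 ∧ linFlag M s k = false := by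
    intro M hv s k hk
    have h0 : ∀ ν, ((X - C s, k), ν) ∉ M := by
      intro ν hm
      obtain ⟨he, hcase⟩ := hv _ hm
      rcases hcase with ⟨hr, -⟩ | ⟨s', -, -, hsign⟩ | ⟨s', -, hs', -⟩
      · obtain ⟨-, -, hd⟩ := (hr.shape h2)
        have := (hr.shape h2).2.1
        rw [natDegree_X_sub_C] at this
        exact Nat.not_even_one this
      · exact (Nat.not_even_iff_odd.2 hk) (sign_even (z := ((X - C s, k), ν)) he hsign h2)
      · exact hdeg s s' hs'
    simp [linMult, linFlag, Multiset.count_eq_zero_of_notMem (h0 _), h0]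
  have heven0 : ∀ (M : Multiset ((F[X] × ℕ) × Bool)), (∀ z ∈ M, ValidLabel (-1) z) → ∀ (s : F) k,
      (s = 1 ∨ s = -1) → Even k → M.count (((X - C s) ^ 2, k), false) = 0 := by
    intro M hv s k hs hk
    refine Multiset.count_eq_zero_of_notMem fun hm => ?_
    obtain ⟨he, hcase⟩ := hv _ hm
    rcases hcase with ⟨hr, -⟩ | ⟨s', -, hs', -⟩ | ⟨s', -, -, hsign, -⟩
    · exact (hlin s hs).2 hr
    · exact hdeg s' s hs'.symm
    · exact (Nat.not_odd_iff_even.2 hk) (sign_odd (z := (((X - C s) ^ 2, k), false)) he hsign h2)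
  have hflag : ∀ (s : F), (s = 1 ∨ s = -1) → ∀ l, 1 ≤ l →
      linMult M s (2 * l) = linMult M' s (2 * l) ∧ linFlag M s (2 * l) = linFlag M' s (2 * l) := by
    intro s hs l hl
    obtain ⟨-, e1, e2⟩ := codePoly_inj h2 (hp (2 * l) (by omega))
    have hb' := hb l hl
    have hsp : splitFlag (linMult M s (2 * l)) (linFlag M s (2 * l)) =
        splitFlag (linMult M' s (2 * l)) (linFlag M' s (2 * l)) := by
      rcases hs with rfl | rfl
      · refine Prod.ext ?_ (Prod.ext (congrFun hb' 0) (congrFun hb' 1))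
        have a := heven0 M hv 1 (2 * l) (Or.inl rfl) ⟨l, by ring⟩
        have b := heven0 M' hv' 1 (2 * l) (Or.inl rfl) ⟨l, by ring⟩
        simp only [sqPow, a, b, zero_add] at e1
        exact e1
      · refine Prod.ext ?_ (Prod.ext (congrFun hb' 2) (congrFun hb' 3))
        have a := heven0 M hv (-1) (2 * l) (Or.inr rfl) ⟨l, by ring⟩
        have b := heven0 M' hv' (-1) (2 * l) (Or.inr rfl) ⟨l, by ring⟩
        simp only [sqPow, a, b, zero_add] at e2
        exact e2
    exact splitFlag_inj linFlag_pos linFlag_pos hsp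
  refine Multiset.ext.2 fun z => ?_
  by_cases hz : ValidLabel (-1 : F) z
  swap
  · rw [Multiset.count_eq_zero_of_notMem fun hm => hz (hv z hm),
      Multiset.count_eq_zero_of_notMem fun hm => hz (hv' z hm)]
  obtain ⟨⟨P, k⟩, ν⟩ := z
  obtain ⟨hk, hcase⟩ := hz
  simp only at hk hcase
  rcases hcase with ⟨hP, rfl⟩ | ⟨s, hs, rfl, hsign⟩ | ⟨s, hs, rfl, hsign, rfl⟩
  · rw [← hreg M hv P k hP, ← hreg M' hv' P k hP, (codePoly_inj h2 (hp k hk)).1]
  · obtain ⟨l, rfl⟩ := sign_even (z := ((X - C s, k), ν)) hk hsign h2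
    rw [← two_mul] at hk ⊢
    obtain ⟨em, ef⟩ := hflag s hs l (by omega)
    have hmem : (((X - C s, 2 * l), true) ∈ M) ↔ (((X - C s, 2 * l), true) ∈ M') := by
      simpa [linFlag] using ef
    have hct : M.count ((X - C s, 2 * l), true) = M'.count ((X - C s, 2 * l), true) := by
      rw [count_true_le_one hN rfl, count_true_le_one hN' rfl]
      simp only [hmem]
    cases ν
    · simp only [linMult] at em
      omega
    · exact hct
  · have hodd := sign_odd (z := (((X - C s) ^ 2, k), false)) hk hsign h2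
    obtain ⟨-, e1, e2⟩ := codePoly_inj h2 (hp k hk)
    obtain ⟨a, a'⟩ := hodd0 M hv s k hodd
    obtain ⟨b, b'⟩ := hodd0 M' hv' s k hodd
    rcases hs with rfl | rfl
    · simp only [sqPow, a, a', b, b'] at e1
      exact Nat.add_right_cancel e1
    · simp only [sqPow, a, a', b, b'] at e2
      exact Nat.add_right_cancel e2

end Cfsg.Agent.CN9
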