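import Cfsg.Agent.ClassNum9.Sp.Code

/-!
The weight of a code.
-/

set_option autoImplicit false

namespace Cfsg.Agent.CN9

open Polynomial Cfsg.Agent.GLSemi

universe u

variable {F : Type u} [Field F]

/-- total degree of the labels of an exponent -/
def expDeg (M : Multiset ((F[X] × ℕ) × Bool)) (k : ℕ) : ℕ :=
  (M.map fun z => if z.1.2 = k then z.1.1.natDegree else 0).sum

theorem sum_expDeg (M : Multiset ((F[X] × ℕ) × Bool)) (K : ℕ) (h : ∀ z ∈ M, 1 ≤ z.1.2 ∧ z.1.2 ≤ K) :
    (M.map fun z => z.1.2 * z.1.1.natDegree).sum = ∑ k ∈ Finset.Icc 1 K, k * expDeg M k := by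
  induction M using Multiset.induction_on with
  | empty => simp [expDeg]
  | cons z M ih =>
    obtain ⟨a, b⟩ := h z (Multiset.mem_cons_self _ _)
    rw [Multiset.map_cons, Multiset.sum_cons, ih fun w hw => h w (Multiset.mem_cons_of_mem hw)]
    simp only [expDeg, Multiset.map_cons, Multiset.sum_cons, mul_add, Finset.sum_add_distrib, mul_ite, mul_zero]
    rw [Finset.sum_ite_eq, if_pos (Finset.mem_Icc.2 ⟨a, b⟩)]

theorem expDeg_eq (h2 : (2 : F) ≠ 0) {δ : F} {M : Multiset ((F[X] × ℕ) × Bool)} (hv : ∀ z ∈ M, ValidLabel δ z)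
    [DecidableEq ((F[X] × ℕ) × Bool)] (k : ℕ) :
    expDeg M k = ((regPart M k).map natDegree).sum +
      (2 * M.count (((X - C 1) ^ 2, k), false) + 2 * M.count (((X - C (-1)) ^ 2, k), false)) +
      (M.count ((X - C 1, k), false) + M.count ((X - C 1, k), true) +
        (M.count ((X - C (-1), k), false) + M.count ((X - C (-1), k), true))) := by
  classical
  have hne1 : (1 : F) ≠ -1 := fun h => h2 (by rw [← one_add_one_eq_two]; nth_rw 1 [h]; exact neg_add_cancel 1)
  have hlin : ∀ s : F, (s = 1 ∨ s = -1) → ¬ IsReg (X - C s) ∧ ¬ IsReg ((X - C s) ^ 2) := by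
    intro s hs
    rcases hs with rfl | rfl
    · exact ⟨fun h => h.2.1 (by simp), fun h => h.2.1 (by simp)⟩
    · exact ⟨fun h => h.2.2.1 (by simp), fun h => h.2.2.1 (by simp)⟩
  have hdeg : ∀ s s' : F, X - C s ≠ (X - C s') ^ 2 := fun s s' hh => by
    have := congrArg natDegree hh
    rw [natDegree_pow, natDegree_X_sub_C, natDegree_X_sub_C] at this
    omega
  have hsq1 : ((X - C (1 : F)) ^ 2) ≠ (X - C (-1)) ^ 2 := fun hh => by
    have h1 := congrArg (eval (1 : F)) hh
    simp only [eval_pow, eval_sub, eval_X, eval_C, sub_self, ne_eq, OfNat.ofNat_ne_zero, not_false_eq_true,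
      zero_pow] at h1
    exact hne1 (sub_eq_zero.1 (pow_eq_zero_iff two_ne_zero |>.1 h1.symm))
  have hlin1 : X - C (1 : F) ≠ X - C (-1) := fun hh => hne1 (C_injective (sub_right_injective hh))
  induction M using Multiset.induction_on with
  | empty => simp [expDeg, regPart]
  | cons z M ih =>
    have hih := ih fun w hw => hv w (Multiset.mem_cons_of_mem hw)
    have hz := hv z (Multiset.mem_cons_self _ _)
    have e1 : expDeg (z ::ₘ M) k = (if z.1.2 = k then z.1.1.natDegree else 0) + expDeg M k := by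
      simp [expDeg]
    have e2 : ((regPart (z ::ₘ M) k).map natDegree).sum =
        (if z.1.2 = k ∧ IsReg z.1.1 then z.1.1.natDegree else 0) + ((regPart M k).map natDegree).sum := by
      simp only [regPart, Multiset.filter_cons]
      split_ifs <;> simp
    rw [e1, e2, hih]
    obtain ⟨⟨P, e⟩, ν⟩ := z
    obtain ⟨-, hc⟩ := hz
    simp only at hc ⊢
    by_cases hk : e = k
    · subst hk
      rcases hc with ⟨hP, rfl⟩ | ⟨s, hs, rfl, -⟩ | ⟨s, hs, rfl, -, rfl⟩
      · have a := (hlin 1 (Or.inl rfl))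
        have b := (hlin (-1) (Or.inr rfl))
        have n1 : P ≠ (X - C 1) ^ 2 := fun h => a.2 (h ▸ hP)
        have n2 : P ≠ (X - C (-1)) ^ 2 := fun h => b.2 (h ▸ hP)
        have n3 : P ≠ X - C 1 := fun h => a.1 (h ▸ hP)
        have n4 : P ≠ X - C (-1) := fun h => b.1 (h ▸ hP)
        simp only [Multiset.count_cons, Prod.mk.injEq, n1, n2, n3, n4, n1.symm, n2.symm, n3.symm, n4.symm, hP,
          and_self, false_and, and_false, if_false, if_true, add_zero]
        omega
      · rcases hs with rfl | rfl <;> cases ν <;>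
          simp only [Multiset.count_cons, Prod.mk.injEq, natDegree_X_sub_C, (hlin 1 (Or.inl rfl)).1,
            (hlin (-1) (Or.inr rfl)).1, hdeg, (hdeg _ _).symm, hlin1, hlin1.symm, and_self, and_true, true_and,
            and_false, false_and, if_false, if_true, Bool.false_eq_true, Bool.true_eq_false, add_zero,
            reduceCtorEq] <;> omega
      · rcases hs with rfl | rfl <;>
          simp only [Multiset.count_cons, Prod.mk.injEq, natDegree_pow, natDegree_X_sub_C, (hlin 1 (Or.inl rfl)).2,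
            (hlin (-1) (Or.inr rfl)).2, hdeg, (hdeg _ _).symm, hsq1, hsq1.symm, and_self, and_true, true_and,
            and_false, false_and, if_false, if_true, Bool.false_eq_true, Bool.true_eq_false, add_zero,
            reduceCtorEq] <;> omega
    · simp only [Multiset.count_cons, Prod.mk.injEq, hk, Ne.symm hk, and_false, false_and, if_false, zero_add,
        add_zero]

/-- total of the bits at `l` -/
noncomputable def bitSum (M : Multiset ((F[X] × ℕ) × Bool)) (l : ℕ) : ℕ := ∑ i, (codeBits M l i).toNat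

theorem codePoly_degree (h2 : (2 : F) ≠ 0) (M : Multiset ((F[X] × ℕ) × Bool)) (k : ℕ) :
    (codePoly M k).natDegree = ((regPart M k).map natDegree).sum + (2 * sqPow M 1 k + 2 * sqPow M (-1) k) := by
  have hne : ∀ f ∈ regPart M k, f.Monic := fun f hf => (regPart_reg M k f hf).1.1
  have hm : ∀ s : F, (((X - C s) ^ 2) ^ sqPow M s k).Monic := fun s => ((monic_X_sub_C s).pow 2).pow _
  rw [codePoly, ((monic_multiset_prod_of_monic (regPart M k) id (fun f hf => hne f hf) |> fun h => by
    simpa using h : (regPart M k).prod.Monic).mul (hm 1)).natDegree_mul (hm (-1)),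
    (show (regPart M k).prod.Monic by simpa using monic_multiset_prod_of_monic (regPart M k) id hne).natDegree_mul
      (hm 1), natDegree_multiset_prod_of_monic _ hne, natDegree_pow, natDegree_pow, natDegree_pow, natDegree_pow,
    natDegree_X_sub_C, natDegree_X_sub_C]
  ring

theorem expDeg_code (h2 : (2 : F) ≠ 0) {M : Multiset ((F[X] × ℕ) × Bool)} (hv : ∀ z ∈ M, ValidLabel (-1) z)
    {k : ℕ} (hk : 1 ≤ k) :
    expDeg M k = (codePoly M k).natDegree + if Even k then bitSum M (k / 2) else 0 := by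
  classical
  rw [expDeg_eq h2 hv, codePoly_degree h2]
  have hdeg : ∀ s s' : F, X - C s ≠ (X - C s') ^ 2 := fun s s' hh => by
    have := congrArg natDegree hh
    rw [natDegree_pow, natDegree_X_sub_C, natDegree_X_sub_C] at this
    omega
  split_ifs with he
  · obtain ⟨l, rfl⟩ := he
    rw [← two_mul, Nat.mul_div_cancel_left l two_pos]
    have w1 := splitFlag_weight (j := linMult M 1 (2 * l)) (ν := linFlag M 1 (2 * l)) linFlag_pos
    have w2 := splitFlag_weight (j := linMult M (-1) (2 * l)) (ν := linFlag M (-1) (2 * l)) linFlag_pos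
    have hb : bitSum M l = (splitFlag (linMult M 1 (2 * l)) (linFlag M 1 (2 * l))).2.1.toNat +
        (splitFlag (linMult M 1 (2 * l)) (linFlag M 1 (2 * l))).2.2.toNat +
        ((splitFlag (linMult M (-1) (2 * l)) (linFlag M (-1) (2 * l))).2.1.toNat +
        (splitFlag (linMult M (-1) (2 * l)) (linFlag M (-1) (2 * l))).2.2.toNat) := by
      simp [bitSum, codeBits, Fin.sum_univ_four]
      ring
    rw [hb]
    simp only [sqPow]
    simp only [linMult] at w1 w2 ⊢
    omega
  · rw [Nat.not_even_iff_odd] at he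
    have h0 : ∀ (s : F) ν, ((X - C s, k), ν) ∉ M := by
      intro s ν hm
      obtain ⟨he', hcase⟩ := hv _ hm
      rcases hcase with ⟨hr, -⟩ | ⟨s', -, -, hsign⟩ | ⟨s', -, hs', -⟩
      · have := (hr.shape h2).2.1
        rw [natDegree_X_sub_C] at this
        exact Nat.not_even_one this
      · exact (Nat.not_even_iff_odd.2 he) (sign_even (z := ((X - C s, k), ν)) he' hsign h2)
      · exact hdeg s s' hs'
    have hj : ∀ s : F, linMult M s k = 0 ∧ linFlag M s k = false := fun s => by
      simp [linMult, linFlag, Multiset.count_eq_zero_of_notMem (h0 s _), h0 s]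
    have hsf : splitFlag 0 false = (0, false, false) := rfl
    simp only [sqPow, (hj 1).1, (hj 1).2, (hj (-1)).1, (hj (-1)).2, hsf,
      Multiset.count_eq_zero_of_notMem (h0 _ _), add_zero]

theorem code_weight (h2 : (2 : F) ≠ 0) {M : Multiset ((F[X] × ℕ) × Bool)} (hv : ∀ z ∈ M, ValidLabel (-1) z) {n : ℕ}
    (hn : (M.map fun z => z.1.2 * z.1.1.natDegree).sum = 2 * n) :
    (∀ k, (codePoly M k).natDegree % 2 = 0) ∧
    ∑ k ∈ Finset.Icc 1 (2 * n), k * ((codePoly M k).natDegree / 2) + ∑ l ∈ Finset.Icc 1 n, l * bitSum M l = n := by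
  classical
  have heven : ∀ k, (codePoly M k).natDegree % 2 = 0 := fun k => Nat.even_iff.1 (codePoly_shape h2 M k).2.2
  refine ⟨heven, ?_⟩
  have hpos : ∀ z ∈ M, 1 ≤ z.1.1.natDegree := by
    intro z hz
    rcases (hv z hz).2 with ⟨hr, -⟩ | ⟨s, -, hs, -⟩ | ⟨s, -, hs, -⟩
    · exact (hr.shape h2).2.2
    · rw [hs, natDegree_X_sub_C]
    · rw [hs, natDegree_pow, natDegree_X_sub_C]; omega
  have hb : ∀ z ∈ M, 1 ≤ z.1.2 ∧ z.1.2 ≤ 2 * n := fun z hz => ⟨(hv z hz).1, by
    calc z.1.2 ≤ z.1.2 * z.1.1.natDegree := Nat.le_mul_of_pos_right _ (hpos z hz)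
      _ ≤ _ := hn ▸ Multiset.le_sum_of_mem (Multiset.mem_map_of_mem (fun z : (F[X] × ℕ) × Bool => z.1.2 * z.1.1.natDegree) hz)⟩
  have h1 := sum_expDeg M (2 * n) hb
  rw [hn, Finset.sum_congr rfl fun k hk => by rw [expDeg_code h2 hv (Finset.mem_Icc.1 hk).1]] at h1
  simp only [mul_add, mul_ite, mul_zero, Finset.sum_add_distrib] at h1
  rw [← Finset.sum_filter] at h1
  have h3 : ∑ k ∈ (Finset.Icc 1 (2 * n)).filter (fun k => Even k), k * bitSum M (k / 2) =
      2 * ∑ l ∈ Finset.Icc 1 n, l * bitSum M l := by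
    rw [Finset.mul_sum]
    refine Finset.sum_bij' (fun k _ => k / 2) (fun l _ => 2 * l) ?_ ?_ ?_ ?_ ?_
    all_goals intro k hk
    all_goals simp only [Finset.mem_filter, Finset.mem_Icc, Nat.even_iff] at hk ⊢
    · omega
    · omega
    · omega
    · omega
    · rw [← mul_assoc]
      congr 1
      omega
  have h4 : ∑ k ∈ Finset.Icc 1 (2 * n), k * (codePoly M k).natDegree =
      2 * ∑ k ∈ Finset.Icc 1 (2 * n), k * ((codePoly M k).natDegree / 2) := by
    rw [Finset.mul_sum]
    refine Finset.sum_congr rfl fun k _ => ?_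
    rw [mul_left_comm]
    congr 1
    have := heven k
    omega
  rw [h3, h4] at h1
  omega

end Cfsg.Agent.CN9
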